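import Groth.Agent.PicGal25.Stage
import Groth.Agent.Frob53.FrobLine
import Groth.Agent.Amp73.PullTensor
import Groth.Agent.Props58.PullTensor
import Groth.Prelude.Def_W4c3convisocdirimgFrobIter

/-! Frobenius and purely inseparable descent of torsion classes. -/

set_option autoImplicit false
set_option maxSynthPendingDepth 6
set_option backward.isDefEq.respectTransparency false
set_option backward.isDefEq.respectTransparency.types false
set_option backward.defeqAttrib.useBackward true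
universe u

open CategoryTheory CategoryTheory.Limits AlgebraicGeometry TopologicalSpace Opposite
open Lim8 Groth.Agent.LimTop61

noncomputable section

namespace Groth.Agent.PicInsep25

section Cl

variable {X Y : Scheme.{u}}

/-- Tensor product of classes. -/
def clMul : PicF.Cl X → PicF.Cl X → PicF.Cl X :=
  Quot.lift₂ (fun L M => PicF.cl (CohB1.tensorMod L M))
    (fun L _ _ ⟨e⟩ => Quot.sound ⟨EGA73.tensIso (Iso.refl L) e⟩)
    (fun _ _ M ⟨e⟩ => Quot.sound ⟨EGA73.tensIso e (Iso.refl M)⟩)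

/-- Classes form a commutative monoid. -/
scoped instance clMonoidI : CommMonoid (PicF.Cl X) where
  mul := clMul
  one := PicF.cl (Coh.structureModule X)
  mul_assoc := fun a b c => Quot.inductionOn a fun L => Quot.inductionOn b fun M => Quot.inductionOn c fun N =>
    Quot.sound ⟨EGA73.tensAssoc' L M N⟩
  one_mul := fun a => Quot.inductionOn a fun L => Quot.sound ⟨EGA73.tensUnitLeft L⟩
  mul_one := fun a => Quot.inductionOn a fun L => Quot.sound ⟨EGA73.tensUnitRight L⟩
  mul_comm := fun a b => Quot.induction_on₂ a b fun L M => Quot.sound ⟨EGA73.tensComm L M⟩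

theorem cl_one : PicF.cl (Coh.structureModule X) = (1 : PicF.Cl X) := rfl

theorem cl_iso {L M : X.Modules} (h : Nonempty (L ≅ M)) : PicF.cl L = PicF.cl M := Quot.sound h

theorem cl_tensorPow (L : X.Modules) : ∀ n : ℕ, PicF.cl (CohB1.tensorPow L n) = PicF.cl L ^ n
  | 0 => (pow_zero _).symm
  | n + 1 => by rw [pow_succ, ← cl_tensorPow L n]; rfl

theorem pullCl_cl (g : X ⟶ Y) (L : Y.Modules) :
    PicF.pullCl g (PicF.cl L) = PicF.cl ((Scheme.Modules.pullback g).obj L) := rfl

theorem pullCl_one (g : X ⟶ Y) : PicF.pullCl g (1 : PicF.Cl Y) = 1 :=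
  cl_iso ⟨PicLoc.pullbackStructureIso g⟩

theorem pullCl_id (c : PicF.Cl X) : PicF.pullCl (𝟙 X) c = c :=
  Quot.inductionOn c fun L => cl_iso ⟨(Scheme.Modules.pullbackId X).app L⟩

theorem pullCl_comp {Z : Scheme.{u}} (a : X ⟶ Y) (b : Y ⟶ Z) (c : PicF.Cl Z) :
    PicF.pullCl (a ≫ b) c = PicF.pullCl a (PicF.pullCl b c) := by
  induction c using Quot.ind with
  | mk L => exact Quot.sound ⟨((Scheme.Modules.pullbackComp a b).app L).symm⟩

theorem isInvertibleCl_mul {a b : PicF.Cl X} (ha : PicF.IsInvertibleCl a) (hb : PicF.IsInvertibleCl b) :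
    PicF.IsInvertibleCl (a * b) := by
  obtain ⟨L, rfl, hL⟩ := ha
  obtain ⟨M, rfl, hM⟩ := hb
  exact ⟨CohB1.tensorMod L M, rfl, EGA73.isInvertible_tensorMod hL hM⟩

theorem pullCl_mul (g : X ⟶ Y) {a b : PicF.Cl Y} (ha : PicF.IsInvertibleCl a) (hb : PicF.IsInvertibleCl b) :
    PicF.pullCl g (a * b) = PicF.pullCl g a * PicF.pullCl g b := by
  obtain ⟨L, rfl, hL⟩ := ha
  obtain ⟨M, rfl, hM⟩ := hb
  exact cl_iso (Props58.PullTensor.nonempty_pullTensIso (f := g) hL hM)

end Cl

variable (p : ℕ) [Fact p.Prime]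

/-- Frobenius pullback of an invertible module is its `p`-th power. -/
theorem nonempty_frob_pullback {X : Scheme.{u}} [FrobSch.IsCharP X p] {L : X.Modules} (hL : PicF.IsInvertible L) :
    Nonempty ((Scheme.Modules.pullback (FrobSch.frob X p)).obj L ≅ CohB1.tensorPow L p) := by
  let η : L ⟶ Frob53.pf p (CohB1.tensorPow L p) := QC70.HomOn.toHom
    { app := fun W _ =>
        { toFun := fun l => Amp73.epow l p
          map_add' := fun a b => Frob53.epow_add p hL a b
          map_smul' := fun r a => Amp73.epow_smul r a p }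
      app_res := fun {W W'} _ h l => (Amp73.res_epow h l p).symm }
  let φ : (Scheme.Modules.pullback (FrobSch.frob X p)).obj L ⟶ CohB1.tensorPow L p :=
    ((Scheme.Modules.pullbackPushforwardAdjunction (FrobSch.frob X p)).homEquiv _ _).symm η
  have hφ : ∀ (U : X.Opens) (e : Γ(L, U)),
      φ.app (FrobSch.frob X p ⁻¹ᵁ U) (Amp73.pullS (FrobSch.frob X p) L U e) = η.app U e := fun U e => by
    have h := (Scheme.Modules.pullbackPushforwardAdjunction (FrobSch.frob X p)).homEquiv_unit L (CohB1.tensorPow L p) φ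
    rw [show (Scheme.Modules.pullbackPushforwardAdjunction (FrobSch.frob X p)).homEquiv _ _ φ = η from
      Equiv.apply_symm_apply _ _] at h
    exact (congrArg (fun f : L ⟶ _ => f.app U e) h).symm
  suffices IsIso φ from ⟨asIso φ⟩
  refine Amp73.isIso_of_frames φ fun x => ?_
  obtain ⟨W, hxW, -, e, he⟩ := Mero90.exists_affine_frame hL x ⊤ trivial
  refine ⟨FrobSch.frob X p ⁻¹ᵁ W.1, _, hxW, Amp73.isFrame_pullS (FrobSch.frob X p) hL he, ?_⟩
  rw [hφ]
  exact Amp73.isFrame_epow he p

theorem isInvertibleCl_pow {X : Scheme.{u}} {c : PicF.Cl X} (hc : PicF.IsInvertibleCl c) :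
    ∀ n : ℕ, PicF.IsInvertibleCl (c ^ n)
  | 0 => ⟨Coh.structureModule X, (pow_zero c).symm, EGA73.isInvertible_tensorPow
      (L := Coh.structureModule X) (by obtain ⟨L, -, hL⟩ := hc; exact EGA73.isInvertible_tensorPow hL 0) 0⟩
  | n + 1 => by rw [pow_succ]; exact isInvertibleCl_mul (isInvertibleCl_pow hc n) hc

theorem pullCl_pow {X Y : Scheme.{u}} (g : X ⟶ Y) {c : PicF.Cl Y} (hc : PicF.IsInvertibleCl c) :
    ∀ n : ℕ, PicF.pullCl g (c ^ n) = PicF.pullCl g c ^ n
  | 0 => by rw [pow_zero, pow_zero, pullCl_one]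
  | n + 1 => by rw [pow_succ, pullCl_mul g (isInvertibleCl_pow hc n) hc, pullCl_pow g hc n, pow_succ]

theorem frobIter_comp {X Y : Scheme.{u}} [FrobSch.IsCharP X p] [FrobSch.IsCharP Y p] (f : X ⟶ Y) :
    ∀ e, FrobSch.frobIter X p e ≫ f = f ≫ FrobSch.frobIter Y p e
  | 0 => by simp
  | e + 1 => by
    rw [FrobSch.frobIter_succ, FrobSch.frobIter_succ, Category.assoc, frobIter_comp f e,
      FrobSch.frob_comp_assoc]

theorem frobIter_appTop {X : Scheme.{u}} [FrobSch.IsCharP X p] :
    ∀ (e : ℕ) (s : Γ(X, ⊤)), (FrobSch.frobIter X p e).appTop s = s ^ p ^ e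
  | 0, s => by simp
  | e + 1, s => by
    show (FrobSch.frob X p).appTop ((FrobSch.frobIter X p e).appTop s) = _
    rw [FrobSch.frob_appTop, frobIter_appTop e, ← pow_mul, pow_succ]

theorem frobIter_spec {R : Type u} [CommRing R] [FrobSch.IsCharP (Spec (CommRingCat.of R)) p] (e : ℕ)
    (φ : R →+* R) (hφ : ∀ r, φ r = r ^ p ^ e) :
    FrobSch.frobIter (Spec (CommRingCat.of R)) p e = Spec.map (CommRingCat.ofHom φ) := by
  obtain ⟨ψ, hψ⟩ := Spec.map_surjective (FrobSch.frobIter (Spec (CommRingCat.of R)) p e)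
  rw [← hψ]
  congr 1
  ext r
  apply (Scheme.ΓSpecIso (CommRingCat.of R)).commRingCatIsoToRingEquiv.symm.injective
  have h1 := frobIter_appTop p (X := Spec (CommRingCat.of R)) e ((Scheme.ΓSpecIso (CommRingCat.of R)).inv r)
  rw [← hψ] at h1
  have h2 := ConcreteCategory.congr_hom (Scheme.ΓSpecIso_inv_naturality ψ) r
  refine h2.trans (h1.trans ?_)
  rw [← map_pow]
  exact congrArg (Scheme.ΓSpecIso (CommRingCat.of R)).inv (hφ r).symm

/-- Iterated Frobenius raises invertible classes to a power. -/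
theorem pullCl_frobIter {X : Scheme.{u}} [FrobSch.IsCharP X p] {c : PicF.Cl X} (hc : PicF.IsInvertibleCl c) :
    ∀ e, PicF.pullCl (FrobSch.frobIter X p e) c = c ^ p ^ e
  | 0 => by rw [pow_zero, pow_one, FrobSch.frobIter_zero, pullCl_id]
  | e + 1 => by
    have hfr : ∀ {d : PicF.Cl X}, PicF.IsInvertibleCl d → PicF.pullCl (FrobSch.frob X p) d = d ^ p := by
      rintro _ ⟨L, rfl, hL⟩
      rw [pullCl_cl, ← cl_tensorPow]
      exact cl_iso (nonempty_frob_pullback p hL)
    rw [FrobSch.frobIter_succ, pullCl_comp, pullCl_frobIter hc e, hfr (isInvertibleCl_pow hc _), ← pow_mul,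
      pow_succ]

variable {k : Type u} [Field k] {X : Scheme.{u}} (f : X ⟶ Spec (CommRingCat.of k))
  [CompactSpace X] [QuasiSeparatedSpace X]

/-- A torsion class on a base change is defined, with the same torsion, over a finitely generated subalgebra. -/
theorem exists_fg_stage_torsion (E : Type u) [Field E] [Algebra k E]
    (F : (pullback f (Spec.map (CommRingCat.ofHom (algebraMap k E)))).Modules) (hF : PicF.IsInvertible F)
    (n : ℕ) (hn : Nonempty (CohB1.tensorPow F n ≅ Coh.structureModule _)) :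
    ∃ S : Subalgebra k E, S.FG ∧ ∃ F₀ : (pullback f (Spec.map (CommRingCat.ofHom (algebraMap k S)))).Modules,
      PicF.IsInvertible F₀ ∧ Nonempty (CohB1.tensorPow F₀ n ≅ Coh.structureModule _) ∧
      Nonempty ((Scheme.Modules.pullback (GeoConn24.toSub E f S)).obj F₀ ≅ F) := by
  classical
  let A := CommRingCat.of k
  let B := CommRingCat.of E
  haveI : QuasiCompact f := (quasiCompact_iff_compactSpace f).2 inferInstance
  haveI : QuasiSeparated f := (quasiSeparated_iff_quasiSeparatedSpace f).2 inferInstance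
  have : IsDirectedOrder (FgSubalg A B) := ⟨fun S T => ⟨⟨S.1 ⊔ T.1, S.2.sup T.2⟩, le_sup_left (a := S.1), le_sup_right (a := S.1)⟩⟩
  have : Nonempty (FgSubalg A B) := ⟨⟨⊥, Subalgebra.fg_bot⟩⟩
  have : IsFiltered (FgSubalg A B) := isFiltered_of_directed_le_nonempty _
  have : IsCofiltered (FgSubalg A B)ᵒᵖ := inferInstance
  let D := subalgSpec A B
  let cS := subalgCone A B
  let j₀ : (FgSubalg A B)ᵒᵖ := op ⟨⊥, Subalgebra.fg_bot⟩
  let g : D.obj j₀ ⟶ Spec A := Spec.map (CommRingCat.ofHom (algebraMap k (⊥ : Subalgebra k E)))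
  have : IsIso g := by
    have hb : Function.Bijective (algebraMap k (⊥ : Subalgebra k E)) :=
      ⟨RingHom.injective _, fun z => by
        obtain ⟨r, hr⟩ := Algebra.mem_bot.mp z.2
        exact ⟨r, Subtype.ext hr⟩⟩
    have : IsIso (CommRingCat.ofHom (algebraMap k (⊥ : Subalgebra k E))) :=
      (RingEquiv.ofBijective _ hb).toCommRingCatIso.isIso_hom
    exact inferInstanceAs (IsIso (Spec.map _))
  let a : X ⟶ D.obj j₀ := f ≫ inv g
  let sE := Spec.map (CommRingCat.ofHom (algebraMap k E))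
  let sK (S : Subalgebra k E) := Spec.map (CommRingCat.ofHom (algebraMap k S))
  have hg (j : Over j₀) : D.map j.hom ≫ g = sK j.left.unop.1 := by
    simp only [D, g, sK, subalgSpec, Functor.comp_map, Functor.op_map, Scheme.Spec_map,
      Quiver.Hom.unop_op]
    erw [← Spec.map_comp]
    rfl
  have hgE : cS.π.app j₀ ≫ g = sE := by
    simp only [cS, g, sE, subalgCone, Functor.mapCone_π_app]
    erw [← Spec.map_comp]
    rfl
  have hP : IsPullback (pullback.fst f sE) (pullback.snd f sE) a (cS.π.app j₀) :=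
    (IsPullback.of_hasPullback f sE).of_iso (Iso.refl _) (Iso.refl _) (Iso.refl _) (asIso g).symm
      (by simp) (by simp) (by simp [a]) (by simp [← hgE])
  let c := bcCone D cS a (pullback.fst f sE) (pullback.snd f sE) hP.w
  let hc : IsLimit c := isLimitBcCone D cS (isLimitSubalgCone A B) a _ _ hP
  haveI : ∀ j, CompactSpace ↥((bcDiagram D a).obj j) := fun j =>
    @QuasiCompact.compactSpace_of_compactSpace _ (D.obj j.left) (pullback.snd a (D.map j.hom)) inferInstance inferInstance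
  haveI : ∀ j, QuasiSeparatedSpace ↥((bcDiagram D a).obj j) := fun j =>
    quasiSeparatedSpace_of_quasiSeparated (pullback.snd a (D.map j.hom))
  obtain ⟨i₁, F₁, hF₁, ⟨t₁⟩⟩ := PicLim95.exists_invertible_stage (c := c) hc F hF
  obtain ⟨tn⟩ := hn
  have hcl : PicF.pullCl (c.π.app i₁) (PicF.cl (CohB1.tensorPow F₁ n)) =
      PicF.pullCl (c.π.app i₁) (PicF.cl (Coh.structureModule _)) := by
    rw [cl_tensorPow, pullCl_pow _ ⟨F₁, rfl, hF₁⟩, pullCl_cl, cl_iso ⟨t₁⟩, ← cl_tensorPow, cl_one, pullCl_one]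
    exact (cl_iso ⟨tn⟩).trans cl_one
  obtain ⟨e₁⟩ := RigDesc25.nonempty_iso_of_cl hcl
  obtain ⟨j, φ, ⟨e₂⟩⟩ := PicLim95.exists_iso_stage (c := c) hc _ _ (EGA73.isInvertible_tensorPow hF₁ n)
    (EGA73.isInvertible_tensorPow hF₁ 0) e₁
  let Fj := (Scheme.Modules.pullback ((bcDiagram D a).map φ)).obj F₁
  have hFj : PicF.IsInvertible Fj := Amp73.isInvertible_pullback _ hF₁
  have hiso : IsPullback (pullback.fst a (D.map j.hom)) (pullback.snd a (D.map j.hom)) f (sK j.left.unop.1) :=
    (IsPullback.of_hasPullback a (D.map j.hom)).of_iso (Iso.refl _) (Iso.refl _) (Iso.refl _) (asIso g)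
      (by simp) (by simp) (by simp [a]) (by simpa using (hg j))
  have e : c.π.app j ≫ hiso.isoPullback.hom = GeoConn24.toSub E f j.left.unop.1 := by
    refine pullback.hom_ext ?_ ?_
    · rw [Category.assoc, hiso.isoPullback_hom_fst]
      exact (pullback.lift_fst _ _ _).trans (pullback.lift_fst _ _ _).symm
    · rw [Category.assoc, hiso.isoPullback_hom_snd]
      refine (pullback.lift_snd _ _ _).trans ?_
      rw [GeoConn24.toSub, pullback.lift_snd]
      rfl
  refine ⟨j.left.unop.1, j.left.unop.2, (Scheme.Modules.pullback hiso.isoPullback.inv).obj Fj,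
    Amp73.isInvertible_pullback _ hFj, RigDesc25.nonempty_iso_of_cl ?_,
    ⟨(LimTop61.pullbackCompIso hiso.isoPullback.inv (GeoConn24.toSub E f j.left.unop.1)
      (by rw [← e, Category.assoc, Iso.hom_inv_id, Category.comp_id])).app Fj ≪≫
      (LimTop61.pullbackCompIso ((bcDiagram D a).map φ) (c.π.app j) (c.w φ)).app F₁ ≪≫ t₁⟩⟩
  rw [cl_tensorPow, ← pullCl_cl, ← pullCl_pow _ ⟨Fj, rfl, hFj⟩, ← pullCl_cl,
    ← pullCl_pow _ ⟨F₁, rfl, hF₁⟩, ← cl_tensorPow, pullCl_cl ((bcDiagram D a).map φ), cl_iso ⟨e₂⟩]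
  exact (cl_iso ⟨(Scheme.Modules.pullback hiso.isoPullback.inv).mapIso (PicLoc.pullbackStructureIso _) ≪≫
    PicLoc.pullbackStructureIso _⟩)

omit [CompactSpace X] [QuasiSeparatedSpace X] in
/-- Torsion of order prime to `p` descends along a purely inseparable extension of bounded exponent. -/
theorem descend_of_exponent [CharP k p] {S : Type u} [CommRing S] [Algebra k S] (e : ℕ) (σ : S →+* k)
    (hσ : ∀ c, algebraMap k S (σ c) = c ^ p ^ e) (hσk : ∀ a, σ (algebraMap k S a) = a ^ p ^ e)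
    {d : PicF.Cl (pullback f (Spec.map (CommRingCat.ofHom (algebraMap k S))))} (hd : PicF.IsInvertibleCl d)
    (n : ℕ) (hn : ¬ p ∣ n) (hdn : d ^ n = 1) :
    ∃ c : PicF.Cl X, PicF.IsInvertibleCl c ∧ c ^ n = 1 ∧ PicF.pullCl (pullback.fst f _) c = d := by
  haveI : FrobSch.IsCharP X p := FrobSch.IsCharP.of_hom f p
  let aS := Spec.map (CommRingCat.ofHom (algebraMap k S))
  haveI : FrobSch.IsCharP (pullback f aS) p := FrobSch.IsCharP.of_hom (pullback.fst f aS) p
  haveI : FrobSch.IsCharP (Spec (CommRingCat.of S)) p := FrobSch.IsCharP.of_hom aS p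
  let ψ : X ⟶ pullback f aS := pullback.lift (FrobSch.frobIter X p e) (f ≫ Spec.map (CommRingCat.ofHom σ))
    (by
      rw [frobIter_comp p f e, Category.assoc, ← Spec.map_comp, ← CommRingCat.ofHom_comp,
        frobIter_spec p e (σ.comp (algebraMap k S)) hσk])
  have hψ : pullback.fst f aS ≫ ψ = FrobSch.frobIter (pullback f aS) p e := by
    refine pullback.hom_ext ?_ ?_
    · rw [Category.assoc, show ψ ≫ pullback.fst f aS = _ from pullback.lift_fst _ _ _,
        frobIter_comp p (pullback.fst f aS) e]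
    · rw [Category.assoc, show ψ ≫ pullback.snd f aS = _ from pullback.lift_snd _ _ _,
        pullback.condition_assoc, frobIter_comp p (pullback.snd f aS) e, ← Spec.map_comp, ← CommRingCat.ofHom_comp,
        frobIter_spec p e ((algebraMap k S).comp σ) hσ]
  obtain ⟨m, -, hm⟩ : ∃ m < n, (p ^ e * m) % n = 1 % n :=
    Nat.exists_mul_mod_eq_of_coprime 1 ((Nat.Coprime.pow_left e ((Fact.out : p.Prime).coprime_iff_not_dvd.2 hn)))
      (by rintro rfl; exact hn (dvd_zero p))
  have hψd : PicF.IsInvertibleCl (PicF.pullCl ψ d) := by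
    obtain ⟨L, rfl, hL⟩ := hd
    exact ⟨_, rfl, Amp73.isInvertible_pullback ψ hL⟩
  refine ⟨PicF.pullCl ψ d ^ m, isInvertibleCl_pow hψd m, ?_, ?_⟩
  · rw [← pow_mul, Nat.mul_comm, pow_mul, ← pullCl_pow ψ hd, hdn, pullCl_one, one_pow]
  · rw [pullCl_pow _ hψd, ← pullCl_comp, hψ, pullCl_frobIter p hd, ← pow_mul,
      pow_eq_pow_mod _ hdn, hm, ← pow_eq_pow_mod _ hdn, pow_one]

end Groth.Agent.PicInsep25
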